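import Mathlib

/-!
A sharp monoid with smooth monoid algebra is free.
-/

set_option autoImplicit false

universe u

open scoped Pointwise

noncomputable section

namespace Groth.Agent.DiagMonSmooth

open MvPolynomial

variable {R : Type u} [CommRing R] {d : ℕ}

/-- An ideal inside the square of the irrelevant ideal with smooth quotient vanishes. -/
theorem eq_bot_of_le_sq {B : Type u} [CommRing B] [Algebra R B] [Algebra.Smooth R B]
    (φ : MvPolynomial (Fin d) R →ₐ[R] B) (hφ : Function.Surjective φ)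
    (hker : RingHom.ker φ ≤ idealOfVars (Fin d) R ^ 2) : RingHom.ker φ = ⊥ := by
  let P := MvPolynomial (Fin d) R
  let J : Ideal P := RingHom.ker φ
  let m : Ideal P := idealOfVars (Fin d) R
  have hJm : J ≤ m := hker.trans (Ideal.pow_le_self two_ne_zero)
  let Q := P ⧸ m * J
  let π : P →ₐ[R] Q := Ideal.Quotient.mkₐ R (m * J)
  have hle : m * J ≤ J := Ideal.mul_le_right
  let g : Q →ₐ[R] B := Ideal.Quotient.liftₐ (m * J) φ fun a ha => hle ha
  have hg : Function.Surjective g := fun b => by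
    obtain ⟨a, rfl⟩ := hφ b
    exact ⟨π a, rfl⟩
  have hgker : ∀ a, g (π a) = φ a := fun a => rfl
  have hnil : IsNilpotent (RingHom.ker (g : Q →+* B)) := by
    refine ⟨2, ?_⟩
    change _ ^ (1 + 1) = _
    rw [Submodule.pow_succ, Submodule.pow_one]
    rw [Ideal.zero_eq_bot, ← le_bot_iff, Ideal.mul_le]
    intro r hr s hs
    obtain ⟨a, rfl⟩ := Ideal.Quotient.mk_surjective r
    obtain ⟨b, rfl⟩ := Ideal.Quotient.mk_surjective s
    rw [← map_mul]
    exact Ideal.Quotient.eq_zero_iff_mem.2 (Ideal.mul_mem_mul (hJm (hr : φ a = 0)) (hs : φ b = 0))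
  let τ : P →ₐ[R] Q := (Algebra.FormallySmooth.liftOfSurjective (AlgHom.id R B) g hg hnil).comp φ
  have hτ : ∀ a, ∃ j ∈ J, τ a = π a + π j := by
    intro a
    obtain ⟨j, hj⟩ := Ideal.Quotient.mk_surjective (τ a - π a)
    refine ⟨j, ?_, ?_⟩
    · show φ j = 0
      rw [← hgker]
      show g (Ideal.Quotient.mk _ j) = 0
      rw [hj, map_sub, hgker, sub_eq_zero]
      exact Algebra.FormallySmooth.liftOfSurjective_apply (AlgHom.id R B) g hg hnil (φ a)
    · show τ a = π a + Ideal.Quotient.mk _ j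
      rw [hj]; abel
  have hsq : ∀ f ∈ m ^ 2, τ f = π f := by
    intro f hf
    rw [pow_two] at hf
    refine Submodule.mul_induction_on hf (fun a ha b hb => ?_) fun x y hx hy => by rw [map_add, map_add, hx, hy]
    obtain ⟨i, hi, hi'⟩ := hτ a
    obtain ⟨j, hj, hj'⟩ := hτ b
    rw [map_mul, hi', hj', map_mul]
    have h0 : ∀ {x y : P}, x ∈ m → y ∈ J → π x * π y = 0 := fun {x y} hx hy => by
      rw [← map_mul]; exact Ideal.Quotient.eq_zero_iff_mem.2 (Ideal.mul_mem_mul hx hy)
    linear_combination h0 ha hj + h0 hb hi + h0 (hJm hi) hj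
  have hJle : J ≤ m • J := fun f hf => by
    rw [smul_eq_mul]
    refine Ideal.Quotient.eq_zero_iff_mem.1 (show π f = 0 from ?_)
    rw [← hsq f (hker hf)]
    show (Algebra.FormallySmooth.liftOfSurjective (AlgHom.id R B) g hg hnil) (φ f) = 0
    rw [show φ f = 0 from hf, map_zero]
  obtain ⟨r, hr, hr0⟩ := Submodule.exists_sub_one_mem_and_smul_eq_zero_of_fg_of_le_smul m J
    (Algebra.FinitePresentation.ker_fG_of_surjective φ hφ) hJle
  have hc : constantCoeff r = 1 := by
    have := (mem_pow_idealOfVars_iff' 1 (r - 1)).1 (by simpa [m] using hr) 0 (by simp)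
    rwa [coeff_sub, coeff_zero_one, sub_eq_zero, ← constantCoeff_eq] at this
  have hu : IsUnit (r : MvPowerSeries (Fin d) R) := by
    rw [MvPowerSeries.isUnit_iff_constantCoeff]
    have : MvPowerSeries.constantCoeff (r : MvPowerSeries (Fin d) R) = constantCoeff r := by
      simp [← MvPowerSeries.coeff_zero_eq_constantCoeff_apply, constantCoeff_eq]
    rw [this, hc]
    exact isUnit_one
  refine (Submodule.eq_bot_iff _).2 fun f hf => ?_
  have h1 : (r : MvPowerSeries (Fin d) R) * f = 0 := by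
    rw [← MvPolynomial.coe_mul, ← smul_eq_mul, hr0 f hf, MvPolynomial.coe_zero]
  exact MvPolynomial.coe_injective (Fin d) R ((hu.mul_right_eq_zero.1 h1).trans MvPolynomial.coe_zero.symm)

/-- Minimal generators of a sharp cancellative monoid. -/
theorem exists_generators (N : Type) [AddCommMonoid N] [AddMonoid.FG N] [IsCancelAdd N]
    (hsharp : ∀ n : N, IsAddUnit n → n = 0) :
    ∃ (d : ℕ) (ψ : (Fin d →₀ ℕ) →+ N), Function.Surjective ψ ∧
      ∀ x y, Finsupp.degree x ≤ 1 → ψ y = ψ x → y = x := by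
  classical
  have hex : ∃ d, ∃ g : Fin d → N, AddSubmonoid.closure (Set.range g) = ⊤ := by
    obtain ⟨G, hG⟩ := AddMonoid.FG.fg_top (M := N)
    refine ⟨G.card, fun i => (G.equivFin.symm i : N), ?_⟩
    rw [← hG]
    congr 1
    ext a
    exact ⟨fun ⟨i, hi⟩ => hi ▸ (G.equivFin.symm i).2, fun ha => ⟨G.equivFin ⟨a, ha⟩, by simp⟩⟩
  obtain ⟨g, hg⟩ := Nat.find_spec hex
  let ψ : (Fin (Nat.find hex) →₀ ℕ) →+ N := Finsupp.liftAddHom fun i => multiplesHom N (g i)
  have hψ1 : ∀ i k, ψ (Finsupp.single i k) = k • g i := fun i k => by simp [ψ]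
  have hsurj : Function.Surjective ψ := by
    refine AddMonoidHom.mrange_eq_top.1 (eq_top_iff.2 (hg.ge.trans ?_))
    rw [AddSubmonoid.closure_le]
    rintro _ ⟨i, rfl⟩
    exact ⟨Finsupp.single i 1, by rw [hψ1, one_nsmul]⟩
  have hred : ∀ i a, a i = 0 → ψ a ≠ g i := by
    intro i a ha h
    obtain ⟨m, hm⟩ : ∃ m, Nat.find hex = m + 1 := Nat.exists_eq_succ_of_ne_zero (by
      intro h0; exact absurd i.2 (by omega))
    refine Nat.find_min hex (show m < Nat.find hex by omega)
      ⟨fun l => g (Fin.cast hm.symm ((Fin.cast hm i).succAbove l)), ?_⟩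
    refine eq_top_iff.2 (hg.ge.trans ?_)
    rw [AddSubmonoid.closure_le]
    set K := AddSubmonoid.closure (Set.range fun l => g (Fin.cast hm.symm ((Fin.cast hm i).succAbove l)))
    have hK : ∀ j, j ≠ i → g j ∈ K := fun j hj => by
      obtain ⟨l, hl⟩ := Fin.exists_succAbove_eq (x := Fin.cast hm j) (y := Fin.cast hm i)
        (fun h => hj (Fin.cast_injective hm h))
      exact AddSubmonoid.subset_closure ⟨l, by simp [hl]⟩
    rintro _ ⟨j, rfl⟩
    by_cases hj : j = i
    · rw [hj, ← h, ← Finsupp.sum_single a, map_finsuppSum]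
      refine AddSubmonoid.sum_mem _ fun l hl => ?_
      show ψ (Finsupp.single l (a l)) ∈ K
      rw [hψ1]
      exact AddSubmonoid.nsmul_mem _ (hK l fun e => Finsupp.mem_support_iff.1 hl (e ▸ ha)) _
    · exact hK j hj
  have hg0 : ∀ i, g i ≠ 0 := fun i h => hred i 0 rfl (by rw [map_zero, h])
  have hzero : ∀ y, ψ y = 0 → y = 0 := by
    intro y hy
    ext i
    by_contra hi
    have hsplit : y = Finsupp.single i 1 + (y - Finsupp.single i 1) := by
      rw [add_tsub_cancel_of_le (Finsupp.single_le_iff.2 (Nat.one_le_iff_ne_zero.2 (by simpa using hi)))]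
    rw [hsplit, map_add, hψ1, one_nsmul] at hy
    exact hg0 i (hsharp _ (IsAddUnit.of_add_eq_zero _ hy))
  refine ⟨_, ψ, hsurj, fun x y hx hxy => ?_⟩
  rcases Nat.le_one_iff_eq_zero_or_eq_one.1 hx with h0 | h1
  · rw [(Finsupp.degree_eq_zero_iff x).1 h0] at hxy ⊢
    exact hzero y (by rw [hxy, map_zero])
  · obtain ⟨i, rfl⟩ : ∃ i, Finsupp.single i 1 = x := by
      obtain ⟨i, hi⟩ : ∃ i, x i ≠ 0 := by
        by_contra hc
        push Not at hc
        rw [show x = 0 from Finsupp.ext hc, map_zero] at h1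
        exact zero_ne_one h1
      have hle : Finsupp.single i 1 ≤ x := Finsupp.single_le_iff.2 (Nat.one_le_iff_ne_zero.2 hi)
      refine ⟨i, ?_⟩
      have h2 := congrArg Finsupp.degree (add_tsub_cancel_of_le hle)
      rw [map_add, Finsupp.degree_single, h1] at h2
      have h3 : x - Finsupp.single i 1 = 0 := (Finsupp.degree_eq_zero_iff _).1 (by omega)
      conv_rhs => rw [← add_tsub_cancel_of_le hle, h3, add_zero]
    rw [hψ1, one_nsmul] at hxy
    by_cases hyi : y i = 0
    · exact absurd hxy (hred i y hyi)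
    · have hsplit : y = Finsupp.single i 1 + (y - Finsupp.single i 1) := by
        rw [add_tsub_cancel_of_le (Finsupp.single_le_iff.2 (Nat.one_le_iff_ne_zero.2 hyi))]
      have h2 : ψ (y - Finsupp.single i 1) = 0 := by
        rw [hsplit, map_add, hψ1, one_nsmul] at hxy
        exact add_eq_left.1 hxy
      rw [hsplit, hzero _ h2, add_zero]

/-- The monoid algebra is a polynomial algebra. -/
theorem exists_algEquiv (R : Type u) [CommRing R] (N : Type) [AddCommMonoid N] [AddMonoid.FG N] [IsCancelAdd N]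
    (hsharp : ∀ n : N, IsAddUnit n → n = 0) [Algebra.Smooth R (AddMonoidAlgebra R N)] :
    ∃ d, Nonempty (AddMonoidAlgebra R N ≃ₐ[R] MvPolynomial (Fin d) R) := by
  classical
  obtain ⟨d, ψ, hsurj, hfib⟩ := exists_generators N hsharp
  let φ : MvPolynomial (Fin d) R →ₐ[R] AddMonoidAlgebra R N := AddMonoidAlgebra.mapDomainAlgHom R R ψ
  have hφ : ∀ (p : MvPolynomial (Fin d) R), (φ p).coeff = Finsupp.mapDomain ψ (AddMonoidAlgebra.coeff p) := fun _ => rfl
  have hs : Function.Surjective φ := by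
    intro b
    obtain ⟨a, ha⟩ := Finsupp.mapDomain_surjective hsurj b.coeff
    exact ⟨AddMonoidAlgebra.ofCoeff a, AddMonoidAlgebra.coeff_injective (by rw [hφ]; exact ha)⟩
  have hker : RingHom.ker φ ≤ idealOfVars (Fin d) R ^ 2 := fun f hf => by
    rw [mem_pow_idealOfVars_iff']
    intro x hx
    have h0 : Finsupp.mapDomain ψ (AddMonoidAlgebra.coeff f) (ψ x) = 0 := by
      rw [← hφ, show φ f = 0 from hf]; rfl
    rw [Finsupp.mapDomain, Finsupp.sum_apply] at h0
    rw [Finsupp.sum, Finset.sum_eq_single x] at h0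
    · rw [Finsupp.single_eq_same] at h0
      exact h0
    · intro y _ hyx
      rw [Finsupp.single_eq_of_ne]
      exact fun h => hyx (hfib x y (by omega) h.symm)
    · intro hxs
      rw [Finsupp.notMem_support_iff.1 hxs, Finsupp.single_zero, Finsupp.zero_apply]
  have hinj : Function.Injective φ := (RingHom.injective_iff_ker_eq_bot φ.toRingHom).2 (eq_bot_of_le_sq φ hs hker)
  exact ⟨d, ⟨(AlgEquiv.ofBijective φ ⟨hinj, hs⟩).symm⟩⟩

end Groth.Agent.DiagMonSmooth

end
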